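import Groth.Agent.DepthTwoLib.Reflexive
import Mathlib.Algebra.Module.FinitePresentation

/-! Depth one and two of modules of homomorphisms. -/

set_option autoImplicit false
universe u

namespace DepthTwoLib

variable {B : Type u} [CommRing B] {J : Ideal B} {M N : Type u} [AddCommGroup M] [Module B M]
  [AddCommGroup N] [Module B N]

theorem T1.hom (h : T1 J N) : T1 J (M →ₗ[B] N) := fun φ hφ =>
  LinearMap.ext fun x => h _ fun j hj => LinearMap.congr_fun (hφ j hj) x

theorem D2.hom (h : D2 J N) : D2 J (M →ₗ[B] N) := by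
  refine ⟨h.1.hom, fun φ => ?_⟩
  choose m hm using fun x : M => h.2 ((LinearMap.applyₗ x) ∘ₗ φ)
  have uniq : ∀ a b : N, (∀ j : J, (j : B) • a = (j : B) • b) → a = b := fun a b hab =>
    sub_eq_zero.1 (h.1 _ fun j hj => by rw [smul_sub, hab ⟨j, hj⟩, sub_self])
  refine ⟨{ toFun := m, map_add' := fun x y => uniq _ _ fun j => ?_,
            map_smul' := fun c x => uniq _ _ fun j => ?_ }, fun j => LinearMap.ext fun x => ?_⟩
  · rw [← hm, smul_add, ← hm, ← hm]; simp
  · rw [← hm, RingHom.id_apply, smul_comm, ← hm]; simp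
  · exact hm x j

/-- Localized modules of homomorphisms. -/
noncomputable def homLocEquiv {A : Type u} [CommRing A] (p : Ideal A) [p.IsPrime]
    (M N : Type u) [AddCommGroup M] [Module A M] [AddCommGroup N] [Module A N]
    [Module.FinitePresentation A M] :
    LocalizedModule p.primeCompl (M →ₗ[A] N) ≃ₗ[Localization.AtPrime p]
      (LocalizedModule p.primeCompl M →ₗ[Localization.AtPrime p] LocalizedModule p.primeCompl N) :=
  (Module.FinitePresentation.linearEquivMapExtendScalars p.primeCompl).extendScalarsOfIsLocalization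
    p.primeCompl (Localization.AtPrime p)

theorem support_hom_subset {A : Type u} [CommRing A] [IsNoetherianRing A] (M N : Type u)
    [AddCommGroup M] [Module A M] [AddCommGroup N] [Module A N] [Module.Finite A M] :
    Module.support A (M →ₗ[A] N) ⊆ Module.support A N := by
  obtain ⟨n, π, hπ⟩ := Module.Finite.exists_fin' A M
  intro p hp
  obtain ⟨φ, hφ⟩ := Module.mem_support_iff'.1 hp
  by_contra h
  have h' : ∀ m : N, ∃ r ∉ p.asIdeal, r • m = 0 := by
    simpa [Module.mem_support_iff'] using h
  choose r hr hrm using fun i : Fin n => h' (φ (π (Pi.single i 1)))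
  refine hφ (∏ i, r i) (fun hmem => ?_) (LinearMap.ext fun x => ?_)
  · obtain ⟨i, _, hi⟩ := (p.2.prod_mem_iff).1 hmem
    exact hr i hi
  · obtain ⟨v, rfl⟩ := hπ x
    rw [LinearMap.smul_apply, LinearMap.zero_apply, pi_eq_sum_univ' v, map_sum, map_sum, Finset.smul_sum]
    refine Finset.sum_eq_zero fun i _ => ?_
    obtain ⟨c, hc⟩ := Finset.dvd_prod_of_mem r (Finset.mem_univ i)
    rw [map_smul, map_smul, smul_comm, hc, mul_comm, mul_smul, hrm, smul_zero, smul_zero]

end DepthTwoLib
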